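import Groth.Agent.Lib.Helper2.RegExt.Generic
import Groth.Agent.Lib.Helper2.ShriekExt.Dualizing
import Groth.Agent.Lib.Helper2.ShriekExt.Vanish
import Groth.Agent.Lib.Helper9.TopDim
import Groth.Agent.Lib.Helper7.Hypersurf
import Groth.Agent.Lib.Helper17.LocFreeRank

/-!
# Uniqueness of dualizing pairs and the `ℰxt` model of the dualizing sheaf of a closed subscheme
of `P^n_k` (helper2)
-/

set_option autoImplicit false
set_option linter.style.haveILetI false
universe u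
open CategoryTheory CategoryTheory.Limits AlgebraicGeometry TopologicalSpace Opposite
open Scheme.Modules

noncomputable section

namespace Groth.Agent.Lib.Helper2.TraceBij

open Groth.Agent.Lib.Helper3 Groth.Agent.Lib.Helper7.MulSurj Groth.Agent.Lib.Helper7.RegRes
  Groth.Agent.Lib.Helper2.RegExt Groth.Agent.Lib.Helper2.ExtTilde

section Uniq

variable (k : Type u) [Field k] {X : Scheme.{u}} [X.Over (Spec (CommRingCat.of k))]

omit [X.Over (Spec (CommRingCat.of k))] in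
theorem bijective_Hm_of_iso {M N : X.Modules} (β : M ≅ N) (r : ℕ) :
    Function.Bijective (Hm β.hom r) := by
  refine Function.bijective_iff_has_inverse.mpr ⟨Hm β.inv r, fun x => ?_, fun x => ?_⟩
  · rw [← Hm_comp, β.hom_inv_id, Hm_id]
  · rw [← Hm_comp, β.inv_hom_id, Hm_id]

/-- two dualizing pairs (for coherent modules) with coherent dualizing modules are isomorphic,
compatibly with the traces. -/
theorem exists_iso_of_dualizing (r : ℕ) (ω ω' : X.Modules) (hω : Coh.IsCoh ω)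
    (hω' : Coh.IsCoh ω') (t : Coh.HH X ω r →ₗ[k] k) (t' : Coh.HH X ω' r →ₗ[k] k)
    (hd : ∀ F : X.Modules, Coh.IsCoh F → ∀ ψ : Coh.HH X F r →ₗ[k] k,
      ∃! φ : F ⟶ ω, ∀ x : Coh.HH X F r, ψ x = t (Hm φ r x))
    (hd' : ∀ F : X.Modules, Coh.IsCoh F → ∀ ψ : Coh.HH X F r →ₗ[k] k,
      ∃! φ : F ⟶ ω', ∀ x : Coh.HH X F r, ψ x = t' (Hm φ r x)) :
    ∃ β : ω ≅ ω', ∀ x, t x = t' (Hm β.hom r x) := by
  obtain ⟨β, hβ, -⟩ := hd' ω hω t
  obtain ⟨α, hα, -⟩ := hd ω' hω' t'
  have h1 : β ≫ α = 𝟙 ω := (hd ω hω t).unique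
    (fun x => by rw [Hm_comp, ← hα, ← hβ]) (fun x => by rw [Hm_id])
  have h2 : α ≫ β = 𝟙 ω' := (hd' ω' hω' t').unique
    (fun x => by rw [Hm_comp, ← hβ, ← hα]) (fun x => by rw [Hm_id])
  exact ⟨⟨β, α, h1, h2⟩, hβ⟩

end Uniq

section Coh

variable {P X : Scheme.{u}} (ι : X ⟶ P) [IsClosedImmersion ι]

/-- a module on a closed subscheme whose direct image is coherent is coherent. -/
theorem isCoh_of_pushforward (E : X.Modules) (h : Coh.IsCoh ((pushforward ι).obj E)) :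
    Coh.IsCoh E := by
  haveI := h.1
  haveI := h.2
  haveI hq : E.IsQuasicoherent := isQuasicoherent_of_pushforward ι E h.1
  refine ⟨hq, QCProps.isFiniteType_of_charts E fun x => ?_⟩
  obtain ⟨V, hV, hxV⟩ := QCProps.exists_affine_nbhd (ι x)
  have hU : IsAffineOpen (ι ⁻¹ᵁ V) := hV.preimage ι
  refine ⟨ι ⁻¹ᵁ V, hU, hxV, Scheme.Modules.isQuasicoherent_restrictFunctor hU.fromSpec E, ?_⟩
  letI : Algebra Γ(P, V) Γ(X, ι ⁻¹ᵁ V) := (ι.app V).hom.toAlgebra
  letI : Module Γ(P, V) Γ(E, ι ⁻¹ᵁ V) :=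
    inferInstanceAs (Module Γ(P, V) Γ((pushforward ι).obj E, V))
  haveI : IsScalarTower Γ(P, V) Γ(X, ι ⁻¹ᵁ V) Γ(E, ι ⁻¹ᵁ V) := ⟨fun a b q => by
    change ((ι.app V a : Γ(X, ι ⁻¹ᵁ V)) * b) • q = (ι.app V a : Γ(X, ι ⁻¹ᵁ V)) • (b • q)
    rw [mul_smul]⟩
  haveI : Module.Finite Γ(P, V) Γ(E, ι ⁻¹ᵁ V) :=
    QCProps.finite_sections ((pushforward ι).obj E) hV
  exact Module.Finite.of_restrictScalars_finite Γ(P, V) Γ(X, ι ⁻¹ᵁ V) Γ(E, ι ⁻¹ᵁ V)

end Coh

section Model

variable (k : Type u) [Field k] (n r : ℕ) (hr : r ≤ n) {X : Scheme.{u}}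
  [X.Over (Spec (CommRingCat.of k))]
  (ι : X ⟶ CohB1.ProjSpace n k) [IsClosedImmersion ι]
  (hι : ι ≫ CohB1.ProjSpace.toSpec n k = X ↘ Spec (CommRingCat.of k))
  [ModSite.HasSheafHom (O := (CohB1.ProjSpace n k).sheaf)
    ((pushforward ι).obj (Coh.structureModule X))]
  [HasInjectiveResolutions (ModSite.Mod (CohB1.ProjSpace n k).sheaf)]

include hr hι in
/-- **the `ℰxt` model of the dualizing pair of a closed subscheme of `P^n_k` of dimension
`≤ r`.** -/
theorem exists_model'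
    (hdim : topologicalKrullDim ↥X ≤ (r : WithBot ℕ∞)) :
    ∃ (ω : X.Modules) (_ : Coh.IsCoh ω)
      (_ : (pushforward ι).obj ω ≅ (ModSite.extSh (O := (CohB1.ProjSpace n k).sheaf)
        ((pushforward ι).obj (Coh.structureModule X)) (n - r)).obj
          (Twist.twistProjSpace n k (-((n : ℤ) + 1))))
      (t : Coh.HH X ω r →ₗ[k] k),
      ∀ F : X.Modules, Coh.IsCoh F → ∀ ψ : Coh.HH X F r →ₗ[k] k,
        ∃! φ : F ⟶ ω, ∀ x : Coh.HH X F r, ψ x = t (Hm φ r x) := by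
  haveI : HasInjectiveResolutions (CohB1.ProjSpace n k).Modules :=
    ‹HasInjectiveResolutions (ModSite.Mod (CohB1.ProjSpace n k).sheaf)›
  haveI : IsNoetherian (CohB1.ProjSpace n k) := Groth.Agent.S2357.result (CohB1.polyGrading n k)
  haveI : IsNoetherian X := Groth.Agent.Lib.Helper2.ShriekExt.isNoetherian_of_closedImmersion' ι
  have hωP1 : FlatMod.IsFinLocFreeOfRank 1 (Twist.twistProjSpace n k (-((n : ℤ) + 1))) :=
    Groth.Agent.Lib.Helper7.Hypersurf.rank_one_twist n k _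
  have hωP : FlatMod.IsFinLocFree (Twist.twistProjSpace n k (-((n : ℤ) + 1))) :=
    Groth.Agent.Lib.Helper17.LocFreeRank.isFinLocFree_of_rank hωP1
  let O : X.Modules := Coh.structureModule X
  haveI : ModSite.HasSheafHom (O := X.sheaf) O :=
    Groth.Agent.Lib.Helper13.ModSiteTensor.hasSheafHom X.sheaf O
  haveI : ModSite.HasSheafHom (O := (CohB1.ProjSpace n k).sheaf) ((pushforward ι).obj O) :=
    ‹ModSite.HasSheafHom (O := (CohB1.ProjSpace n k).sheaf)
      ((pushforward ι).obj (Coh.structureModule X))›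
  let E : X.Modules := ((ShriekExt.shriekE ι O).rightDerived (n - r)).obj
    (Twist.twistProjSpace n k (-((n : ℤ) + 1)))
  let eE : (pushforward ι).obj E ≅ (ModSite.extSh (O := (CohB1.ProjSpace n k).sheaf)
      ((pushforward ι).obj (Coh.structureModule X)) (n - r)).obj
        (Twist.twistProjSpace n k (-((n : ℤ) + 1))) :=
    ShriekExt.pushRightDerivedShriekEIso ι O (n - r) _
  have hcoh := isCoh_extSh_pushforward ι (n - r) _ hωP
  haveI := hcoh.2
  have hE : Coh.IsCoh E := isCoh_of_pushforward ι E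
    ⟨isQuasicoherent_of_iso eE.symm hcoh.1,
      Groth.Agent.Lib.Helper3.QCProps.isFiniteType_of_iso eE.symm⟩
  obtain ⟨t, ht⟩ := Groth.Agent.Lib.Helper2.ShriekExt.exists_dualizing k n r hr ι hι E ⟨eE⟩
    (fun q hq => Groth.Agent.Lib.Helper2.ShriekExt.isZero_extSh_of_lt k n r ι hdim q hq)
  exact ⟨E, hE, eE, t, ht⟩

include hr hι in
/-- **the `ℰxt` model of the dualizing pair of a closed subscheme of `P^n_k` of pure dimension
`r`.** -/
theorem exists_model
    (heq : ∀ Z : Set ↥X, Z ∈ irreducibleComponents ↥X →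
      topologicalKrullDim ↥Z = (r : WithBot ℕ∞)) :
    ∃ (ω : X.Modules) (_ : Coh.IsCoh ω)
      (_ : (pushforward ι).obj ω ≅ (ModSite.extSh (O := (CohB1.ProjSpace n k).sheaf)
        ((pushforward ι).obj (Coh.structureModule X)) (n - r)).obj
          (Twist.twistProjSpace n k (-((n : ℤ) + 1))))
      (t : Coh.HH X ω r →ₗ[k] k),
      ∀ F : X.Modules, Coh.IsCoh F → ∀ ψ : Coh.HH X F r →ₗ[k] k,
        ∃! φ : F ⟶ ω, ∀ x : Coh.HH X F r, ψ x = t (Hm φ r x) := by
  have hdim : topologicalKrullDim ↥X ≤ (r : WithBot ℕ∞) := by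
    rw [Groth.Agent.Lib.Helper9.topologicalKrullDim_eq_iSup_irreducibleComponents]
    exact iSup₂_le fun Z hZ => (heq Z hZ).le
  exact exists_model' k n r hr ι hι hdim

end Model

end Groth.Agent.Lib.Helper2.TraceBij
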